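import Cfsg.Agent.Lib.USixType.Module.Coords
import Cfsg.Agent.Lib.USixType.Basic
import Cfsg.Agent.Lib.Classical.SmallIso.UFour
import Cfsg.Agent.Lib.Invol.ZStarFinal

/-!
# From the hypotheses to the model of the centraliser, or a split product
-/

set_option autoImplicit false
set_option linter.style.haveILetI false

namespace CfsgLib.USixType.Module

open CfsgLib.U62Type Cfsg Subgroup

local notation "SU4" => Cfsg.SU 4 F4 2

/-- `SU₄(2)` is simple. -/
instance simple_su_four_two : IsSimpleGroup SU4 := by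
  haveI : Fact (Nat.Prime 3) := ⟨Nat.prime_three⟩
  obtain ⟨e⟩ := CfsgLib.Classical.SmallIso.UFour.su_four_two (F := F4) (K := ZMod 3) rfl (by rw [ZMod.card])
  haveI : IsSimpleGroup (Cfsg.PSp 2 (ZMod 3)) :=
    CfsgLib.Classical.isSimpleGroup_PSp le_rfl fun _ => by rw [ZMod.card]
  exact e.isSimpleGroup

/-- The isomorphism from the printed hypothesis. -/
theorem exists_iota {C : Type*} [Group C] {J : Subgroup C} [J.Normal] {L : Type*} [Field L] [Fintype L]
    (hL : Fintype.card L = 3) (e : C ⧸ J ≃* Cfsg.PSp 2 L) : Nonempty (SU4 ≃* C ⧸ J) := by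
  obtain ⟨f⟩ := CfsgLib.Classical.SmallIso.UFour.su_four_two (F := F4) (K := L) rfl hL
  exact ⟨f.trans e.symm⟩

variable {G : Type*} [Group G]

/-- The model from the coordinates. -/
def toModel {z : G} (hz : orderOf z = 2) {J : Subgroup (Cz z)} [J.Normal]
    (D : CoordData J (⟨z, mem_centralizer_singleton_iff.2 rfl⟩ : Cz z)) : CfsgLib.USixType.Model z F4 where
  hF := rfl
  ord := hz
  ρ := D.ρ
  surj := D.surj
  χ x := D.χ ⟨x, D.ker.le x.2⟩
  χ_mul x y := D.χ_mul ⟨x, D.ker.le x.2⟩ ⟨y, D.ker.le y.2⟩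
  χ_surj v := by
    obtain ⟨x, rfl⟩ := D.χ_surj v
    exact ⟨⟨x, D.ker.ge x.2⟩, rfl⟩
  χ_ker x := (D.χ_ker _).trans
    (or_congr ⟨fun h => congrArg Subtype.val h, fun h => Subtype.ext h⟩
      ⟨fun h => congrArg Subtype.val h, fun h => Subtype.ext h⟩)
  χ_sq x := (D.χ_sq _).trans ⟨fun h => Subtype.ext h, fun h => congrArg Subtype.val h⟩
  χ_equiv c x := D.χ_equiv c ⟨x, D.ker.le x.2⟩ ⟨MulAut.conjNormal c x, D.ker.le (MulAut.conjNormal c x).2⟩
    (MulAut.conjNormal_apply c x)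

/-- An involution whose only conjugate in its centraliser is itself is in `Z*`. -/
theorem top_of_isolated [Finite G] {z : G} (hz : orderOf z = 2)
    (h : ∀ g : G, g * z * g⁻¹ ∈ Cz z → g * z * g⁻¹ = z) : Cz z ⊔ Cfsg.oddCore G = ⊤ := by
  have hiso : Cfsg.IsIsolatedInvolution z :=
    ⟨hz, fun g hg => h g (mem_centralizer_singleton_iff.2 hg.eq.symm)⟩
  have hzz : z * z = 1 := by rw [← pow_two, ← hz, pow_orderOf_eq_one]
  have hzi : z⁻¹ = z := inv_eq_of_mul_eq_one_right hzz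
  rw [eq_top_iff]
  intro g _
  have hO : g⁻¹ * z * g * z⁻¹ ∈ Cfsg.oddCore G := by
    have := inv_mem (CfsgLib.Invol.zstar hiso g⁻¹)
    simpa [mul_inv_rev, mul_assoc] using this
  set o := g⁻¹ * z * g * z⁻¹ with ho
  have hu : g⁻¹ * z * g = o * z := by rw [ho, inv_mul_cancel_right]
  have htot : z * o * z⁻¹ = o⁻¹ := by
    refine eq_inv_of_mul_eq_one_left ?_
    have h2 : g⁻¹ * z * g * (g⁻¹ * z * g) = 1 := by
      rw [show g⁻¹ * z * g * (g⁻¹ * z * g) = g⁻¹ * (z * z) * g by group, hzz, mul_one, inv_mul_cancel]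
    rw [hu] at h2
    calc z * o * z⁻¹ * o = o⁻¹ * (o * z * (o * z⁻¹)) * o := by group
      _ = 1 := by rw [hzi, h2, mul_one, inv_mul_cancel]
  obtain ⟨k, hk⟩ : Odd (Nat.card (Cfsg.oddCore G)) := CfsgLib.Cores.odd_card_oddCore
  set w := o ^ (k + 1) with hw
  have hwO : w ∈ Cfsg.oddCore G := pow_mem hO _
  have hoc : o ^ Nat.card (Cfsg.oddCore G) = 1 := by
    have := congrArg Subtype.val (pow_card_eq_one' (x := (⟨o, hO⟩ : Cfsg.oddCore G)))
    rwa [SubmonoidClass.coe_pow] at this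
  have hw2 : w * w = o := by
    rw [hw, ← pow_add, show k + 1 + (k + 1) = 2 * k + 1 + 1 by ring, ← hk, pow_succ, hoc, one_mul]
  have htw : z * w⁻¹ = w * z := by
    have e : z * w * z⁻¹ = w⁻¹ := by rw [hw, ← conj_pow, htot, inv_pow]
    rw [← e]
    calc z * (z * w * z⁻¹) = z * z * w * z⁻¹ := by group
      _ = w * z := by rw [hzz, one_mul, hzi]
  have hc : g * w ∈ Cz z := by
    rw [mem_centralizer_singleton_iff]
    have e : w * z * w⁻¹ = g⁻¹ * z * g := by rw [mul_assoc, htw, ← mul_assoc, hw2, hu]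
    calc g * w * z = g * (w * z * w⁻¹) * w := by group
      _ = z * (g * w) := by rw [e]; group
  rw [← mul_inv_cancel_right g w]
  exact mul_mem_sup hc (inv_mem hwO)

/-- The model, or a split product. -/
theorem model_or_split [Finite G] (z : G) (hz : orderOf z = 2) {L : Type*} [Field L] [Fintype L]
    (hL : Fintype.card L = 3) [hJn : (Cfsg.pCore 2 ↥(Cz z)).Normal]
    (hJ : Cfsg.IsExtraspecial 2 ↥(Cfsg.pCore 2 ↥(Cz z))) (hJc : Nat.card ↥(Cfsg.pCore 2 ↥(Cz z)) = 2 ^ 9)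
    (hCJ : centralizer ((Cfsg.pCore 2 ↥(Cz z)) : Set ↥(Cz z)) ≤ Cfsg.pCore 2 ↥(Cz z))
    (e : ↥(Cz z) ⧸ Cfsg.pCore 2 ↥(Cz z) ≃* Cfsg.PSp 2 L) :
    Nonempty (CfsgLib.USixType.Model z F4) ∨
      SplitData (Cfsg.pCore 2 ↥(Cz z)) (⟨z, mem_centralizer_singleton_iff.2 rfl⟩ : Cz z) := by
  obtain ⟨ι⟩ := exists_iota hL e
  have hfix : ∀ c : Cz z, c * (⟨z, mem_centralizer_singleton_iff.2 rfl⟩ : Cz z) =
      (⟨z, mem_centralizer_singleton_iff.2 rfl⟩ : Cz z) * c :=
    fun c => Subtype.ext (mem_centralizer_singleton_iff.1 c.2)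
  have hz1 : (⟨z, mem_centralizer_singleton_iff.2 rfl⟩ : Cz z) ≠ 1 := fun h => by
    rw [show z = 1 from congrArg Subtype.val h, orderOf_one] at hz
    omega
  have hself : ∀ c : Cz z, (∀ x ∈ Cfsg.pCore 2 ↥(Cz z), c * x = x * c) → c ∈ Cfsg.pCore 2 ↥(Cz z) :=
    fun c h => hCJ (mem_centralizer_iff.2 fun x hx => (h x hx).symm)
  rcases exists_coords _ hJ hJc (hself _ fun x _ => (hfix x).symm) hz1 hfix hself ι with ⟨⟨D⟩⟩ | h
  · exact Or.inl ⟨toModel hz D⟩
  · exact Or.inr h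

end CfsgLib.USixType.Module
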