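import Cfsg.Agent.Lib.USixType.Module.Main
import Cfsg.Agent.Lib.USixType.SplitCase

/-!
# The hypotheses give a model of the centraliser, or the involution is in `Z*`
-/

set_option autoImplicit false

namespace CfsgLib.USixType

open CfsgLib.U62Type Subgroup

/-- A model over a field with four elements, or `G = C(z) O(G)`. -/
theorem exists_model {G : Type*} [Group G] [Finite G] (z : G) (hz : orderOf z = 2) {L : Type*} [Field L] [Fintype L]
    (hL : Fintype.card L = 3) [hJn : (Cfsg.pCore 2 ↥(Cz z)).Normal]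
    (hJ : Cfsg.IsExtraspecial 2 ↥(Cfsg.pCore 2 ↥(Cz z))) (hJc : Nat.card ↥(Cfsg.pCore 2 ↥(Cz z)) = 2 ^ 9)
    (hCJ : centralizer ((Cfsg.pCore 2 ↥(Cz z)) : Set ↥(Cz z)) ≤ Cfsg.pCore 2 ↥(Cz z))
    (e : ↥(Cz z) ⧸ Cfsg.pCore 2 ↥(Cz z) ≃* Cfsg.PSp 2 L) :
    (∃ (F : Type) (_ : Field F) (_ : Fintype F), Nonempty (Model z F)) ∨ Cz z ⊔ Cfsg.oddCore G = ⊤ := by
  rcases Module.model_or_split z hz hL hJ hJc hCJ e with h | h
  · exact Or.inl ⟨F4, inferInstance, inferInstance, h⟩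
  · obtain ⟨ι⟩ := Module.exists_iota hL e
    exact Or.inr (Module.top_of_isolated hz (isolated_of_split hz _ hJ hJc
      (fun c hc => hCJ (mem_centralizer_iff.2 fun x hx => (hc x hx).symm)) ι h))

end CfsgLib.USixType
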