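import Cfsg.Agent.Lib.U62Type.Gens

/-!
# The diagonal subgroup of order 27 acting on a binary module

Elements are numbered by exponents of three of the diagonal generators; a function on the 27 numbers gives an
endomorphism, products are convolutions.  Thirteen weights and the trivial one cut the module into pieces.
-/

set_option autoImplicit false
set_option maxRecDepth 100000

namespace CfsgLib.USixType.Module

open Matrix
open CfsgLib.U62Type

local notation "SU4" => Cfsg.SU 4 F4 2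
local notation "M4" => Matrix (Fin 4) (Fin 4) F4
local notation "GA" => Fin 27 → ZMod 2

/-- The number of an exponent triple. -/
def sMk (x y z : ℕ) : Fin 27 := ⟨x % 3 + 3 * (y % 3) + 9 * (z % 3), by omega⟩

/-- The first exponent. -/
def sX (a : Fin 27) : ℕ := a.val % 3

/-- The second exponent. -/
def sY (a : Fin 27) : ℕ := a.val / 3 % 3

/-- The third exponent. -/
def sZ (a : Fin 27) : ℕ := a.val / 9

/-- The product. -/
def sAdd (a b : Fin 27) : Fin 27 := sMk (sX a + sX b) (sY a + sY b) (sZ a + sZ b)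

/-- The inverse. -/
def sNeg (a : Fin 27) : Fin 27 := sMk (3 - sX a) (3 - sY a) (3 - sZ a)

/-- The conjugate by a transposition. -/
def sT (k : Fin 3) (a : Fin 27) : Fin 27 :=
  if k.val = 0 then sMk (sY a) (sX a) (sZ a)
  else if k.val = 1 then sMk (sX a) (sZ a) (sY a)
  else sMk (sX a + 2 * sZ a) (sY a + 2 * sZ a) (2 * sZ a)

/-- The numbers of the four diagonal generators. -/
def cIx : Fin 4 → Fin 27 := ![sMk 1 0 0, sMk 0 1 0, sMk 0 0 1, sMk 2 2 2]

theorem ix_facts : (∀ a, sAdd (sNeg a) a = 0) ∧ (∀ a b, sAdd (sNeg a) (sAdd a b) = b) ∧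
    (∀ a b, sAdd a (sAdd (sNeg a) b) = b) ∧ (∀ k a, sT k (sT k a) = a) ∧ (∀ a b, sAdd a b = sAdd b a) := by
  decide +kernel

/-- The exponent of a coordinate. -/
def sExp (a : Fin 27) (j : Fin 4) : ℕ :=
  ((if j.val = 0 then 0 else sX a) + (if j.val = 1 then 0 else sY a) + (if j.val = 2 then 0 else sZ a)) % 3

/-- The matrix. -/
def sMat (a : Fin 27) : M4 :=
  Matrix.diagonal fun j => if sExp a j = 0 then 1 else if sExp a j = 1 then F4.w else F4.w * F4.w

theorem sMat_eq : ∀ a, cMat 0 ^ sX a * cMat 1 ^ sY a * cMat 2 ^ sZ a = sMat a := by decide +kernel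

theorem sMat_mul : ∀ a b, sMat a * sMat b = sMat (sAdd a b) := by decide +kernel

theorem sMat_t : ∀ k a, tMat k * sMat a * tMat k = sMat (sT k a) := by decide +kernel

theorem sMat_c : (∀ i, sMat (cIx i) = cMat i) ∧ sMat 0 = 1 := by decide +kernel

theorem coe_pow (A : SU4) (n : ℕ) : ((A ^ n : SU4).1 : M4) = (A.1 : M4) ^ n := by
  induction n with
  | zero => simp
  | succ n ih => rw [pow_succ, pow_succ, U62Type.coe_mul, ih]

/-- The element. -/
def sEl (a : Fin 27) : SU4 := cE 0 ^ sX a * cE 1 ^ sY a * cE 2 ^ sZ a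

theorem sEl_mat (a : Fin 27) : ((sEl a).1 : M4) = sMat a := by
  rw [sEl, U62Type.coe_mul, U62Type.coe_mul, coe_pow, coe_pow, coe_pow]
  exact sMat_eq a

theorem sEl_mul (a b : Fin 27) : sEl a * sEl b = sEl (sAdd a b) :=
  su_ext (by rw [U62Type.coe_mul, sEl_mat, sEl_mat, sEl_mat, sMat_mul])

theorem sEl_t (k : Fin 3) (a : Fin 27) : tE k * sEl a * tE k = sEl (sT k a) :=
  su_ext (by rw [U62Type.coe_mul, U62Type.coe_mul, sEl_mat, sEl_mat]; exact sMat_t k a)

theorem sEl_c (i : Fin 4) : sEl (cIx i) = cE i := su_ext (by rw [sEl_mat]; exact sMat_c.1 i)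

theorem sEl_zero : sEl 0 = 1 := su_ext (by rw [sEl_mat]; exact sMat_c.2)

/-- Convolution. -/
def cv (f g : GA) : GA := fun c => ∑ a, f a * g (sAdd (sNeg a) c)

/-- A single element. -/
def dl (a : Fin 27) : GA := fun b => if a = b then 1 else 0

/-- The weights, on the first three generators. -/
def wt : Fin 13 → ℕ × ℕ × ℕ :=
  ![(0, 1, 1), (1, 0, 1), (1, 1, 0), (1, 1, 1), (1, 1, 2), (1, 2, 1), (1, 2, 2), (0, 0, 1), (0, 1, 0), (0, 1, 2),
    (1, 0, 0), (1, 0, 2), (1, 2, 0)]

/-- The idempotents. -/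
def fW (i : Fin 14) : GA := fun a =>
  if h : i.val < 13 then
    (if ((wt ⟨i.val, h⟩).1 * sX a + (wt ⟨i.val, h⟩).2.1 * sY a + (wt ⟨i.val, h⟩).2.2 * sZ a) % 3 = 0 then 0 else 1)
  else 1

theorem fW_sum : (∑ i, fW i) = dl 0 := by decide +kernel

theorem fW_mul : ∀ i j, cv (fW i) (fW j) = if i = j then fW i else 0 := by decide +kernel

theorem fW_last : ∀ a, cv (dl a) (fW 13) = fW 13 := by decide +kernel

/-- The transpositions on the weights. -/
def wT : Fin 3 → Fin 14 → Fin 14 :=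
  ![![1, 0, 2, 3, 4, 6, 5, 7, 10, 11, 8, 9, 12, 13], ![0, 2, 1, 3, 5, 4, 6, 8, 7, 9, 10, 12, 11, 13],
    ![0, 1, 3, 2, 4, 6, 5, 7, 9, 8, 11, 10, 12, 13]]

theorem fW_t : ∀ k i, (fun a => fW i (sT k a)) = fW (wT k i) := by decide +kernel

/-- The sum of the weights of the first kind. -/
def live : GA := fW 0 + fW 1 + fW 2 + fW 3

/-- The element giving the scalar. -/
def wF : GA := cv (dl (cIx 1)) (dl 0 + dl (cIx 0) + dl (sMk 2 0 0)) + dl (sMk 2 0 0) + dl 0

theorem w_facts : cv (cv wF wF + wF + dl 0) live = 0 ∧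
    (∀ k, cv (fun a => wF (sT k a)) live = cv wF live) ∧
    cv (dl 0 + dl (cIx 0) + dl (sMk 2 0 0)) live = cv (fW 0) live ∧
    (∀ i j : Fin 4, cv (cv (dl (cIx i)) (fW (j.castLE (by norm_num)))) live =
      if i = j then cv (fW (j.castLE (by norm_num))) live
      else cv (cv wF (fW (j.castLE (by norm_num)))) live) := by
  decide +kernel

/-- The elements moving the pieces. -/
def mv : Fin 14 → Fin 27 :=
  fun i => if h : i.val < 13 then
    (if (wt ⟨i.val, h⟩).1 ≠ 0 then sMk 1 0 0 else if (wt ⟨i.val, h⟩).2.1 ≠ 0 then sMk 0 1 0 else sMk 0 0 1)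
  else 0

theorem fW_mv : ∀ i : Fin 13, cv (cv (dl (mv i.castSucc)) (dl 0 + dl (mv i.castSucc))) (fW i.castSucc) =
    fW i.castSucc := by
  decide +kernel

variable {V : Type*} [AddCommGroup V] [_root_.Module (ZMod 2) V] (ρ : SU4 →* _root_.Module.End (ZMod 2) V)

/-- The endomorphism of a function on the diagonal subgroup. -/
def En (f : GA) : _root_.Module.End (ZMod 2) V := ∑ a, f a • ρ (sEl a)

theorem En_add (f g : GA) : En ρ (f + g) = En ρ f + En ρ g := by
  simp [En, add_smul, Finset.sum_add_distrib]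

theorem En_zero : En ρ 0 = 0 := by simp [En]

theorem En_sum {ι : Type*} (s : Finset ι) (f : ι → GA) : En ρ (∑ i ∈ s, f i) = ∑ i ∈ s, En ρ (f i) := by
  classical
  induction s using Finset.induction_on with
  | empty => simp [En_zero]
  | insert i s hi ih => rw [Finset.sum_insert hi, Finset.sum_insert hi, En_add, ih]

theorem En_dl (a : Fin 27) : En ρ (dl a) = ρ (sEl a) := by
  simp [En, dl, ite_smul, Finset.sum_ite_eq]

theorem En_one : En ρ (dl 0) = 1 := by rw [En_dl, sEl_zero, map_one]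

theorem En_mul (f g : GA) : En ρ f * En ρ g = En ρ (cv f g) := by
  simp only [En, Finset.sum_mul_sum, cv, Finset.sum_smul, smul_mul_smul_comm, ← map_mul, sEl_mul]
  rw [Finset.sum_comm (s := Finset.univ) (t := Finset.univ) (f := fun c a => (f a * g (sAdd (sNeg a) c)) • ρ (sEl c))]
  refine Finset.sum_congr rfl fun a _ => ?_
  exact Fintype.sum_equiv ⟨fun b => sAdd a b, fun c => sAdd (sNeg a) c, fun b => ix_facts.2.1 a b,
    fun c => ix_facts.2.2.1 a c⟩ _ _ fun b => by simp [ix_facts.2.1 a b]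

theorem En_comm (f : GA) (a : Fin 27) : En ρ f * ρ (sEl a) = ρ (sEl a) * En ρ f := by
  simp only [En, Finset.mul_sum, Finset.sum_mul, mul_smul_comm, smul_mul_assoc, ← map_mul, sEl_mul,
    ix_facts.2.2.2.2 a]

theorem En_t (k : Fin 3) (f : GA) : ρ (tE k) * En ρ f * ρ (tE k) = En ρ (fun a => f (sT k a)) := by
  simp only [En, Finset.mul_sum, Finset.sum_mul, mul_smul_comm, smul_mul_assoc, ← map_mul, sEl_t]
  exact Fintype.sum_equiv ⟨sT k, sT k, ix_facts.2.2.2.1 k, ix_facts.2.2.2.1 k⟩ _ _ fun a => by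
    simp [ix_facts.2.2.2.1 k a]

end CfsgLib.USixType.Module
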