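import Cfsg.Agent.Lib.USixType.Module.Algebra

/-!
# The two binary orthogonal modules of dimension eight of `SU₄(2)`

Either the four pieces of the first kind fill the module, or the trivial piece has dimension two.
-/

set_option autoImplicit false
set_option maxRecDepth 100000

namespace CfsgLib.USixType.Module

open CfsgLib.U62Type

local notation "SU4" => Cfsg.SU 4 F4 2
local notation "GA" => Fin 27 → ZMod 2

variable {V : Type*} [AddCommGroup V] [_root_.Module (ZMod 2) V]

/-- A faithful orthogonal module of `SU₄(2)` of order `2^8`. -/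
structure Mod (q : QuadraticForm (ZMod 2) V) where
  /-- The action. -/
  ρ : SU4 →* _root_.Module.End (ZMod 2) V
  inj : Function.Injective ρ
  inv : ∀ g v, q (ρ g v) = q v
  nondeg : ∀ v : V, v ≠ 0 → ∃ w, q (v + w) ≠ q v + q w
  card : Nat.card V = 256

variable {q : QuadraticForm (ZMod 2) V} (M : Mod q)

namespace Mod

theorem finite (M : Mod q) : Finite V := Nat.finite_of_card_ne_zero (by rw [M.card]; norm_num)

/-- The pieces. -/
def R (i : Fin 14) : Submodule (ZMod 2) V := LinearMap.range (En M.ρ (fW i))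

theorem End_mul_apply (A B : _root_.Module.End (ZMod 2) V) (v : V) : (A * B) v = A (B v) := rfl

theorem proj_apply (i : Fin 14) {v : V} (hv : v ∈ M.R i) (j : Fin 14) :
    En M.ρ (fW j) v = if j = i then v else 0 := by
  obtain ⟨u, rfl⟩ := LinearMap.mem_range.1 hv
  rw [← End_mul_apply, En_mul, fW_mul]
  split_ifs with h
  · subst h; rfl
  · rw [En_zero]; rfl

theorem sum_proj (v : V) : ∑ i, En M.ρ (fW i) v = v := by
  rw [← LinearMap.sum_apply, ← En_sum, fW_sum, En_one]; rfl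

/-- The pieces give the module. -/
def piEquiv : V ≃ ∀ i, M.R i where
  toFun v i := ⟨En M.ρ (fW i) v, ⟨v, rfl⟩⟩
  invFun f := ∑ i, (f i : V)
  left_inv v := M.sum_proj v
  right_inv f := funext fun j => Subtype.ext (by
    show En M.ρ (fW j) (∑ i, (f i : V)) = f j
    simp only [map_sum, M.proj_apply _ (f _).2, Finset.sum_ite_eq, Finset.mem_univ, if_true])

/-- The order of a piece. -/
noncomputable def n (i : Fin 14) : ℕ := Nat.card (M.R i)

theorem prod_n : ∏ i, M.n i = 256 := by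
  rw [← M.card, Nat.card_congr M.piEquiv, Nat.card_pi]
  rfl

theorem t_sq (k : Fin 3) (v : V) : M.ρ (tE k) (M.ρ (tE k) v) = v := by
  rw [← End_mul_apply, ← map_mul, tE_sq, map_one]; rfl

theorem t_mem (k : Fin 3) (i : Fin 14) {v : V} (hv : v ∈ M.R i) : M.ρ (tE k) v ∈ M.R (wT k i) := by
  obtain ⟨u, rfl⟩ := LinearMap.mem_range.1 hv
  refine LinearMap.mem_range.2 ⟨M.ρ (tE k) u, ?_⟩
  rw [← fW_t, ← En_t]
  simp [End_mul_apply, M.t_sq]

theorem n_t (k : Fin 3) (i : Fin 14) : M.n (wT k i) = M.n i := by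
  have hw : ∀ k i, wT k (wT k i) = i := by decide
  refine Nat.card_congr
    { toFun := fun v => ⟨M.ρ (tE k) v, by simpa [hw] using M.t_mem k _ v.2⟩
      invFun := fun v => ⟨M.ρ (tE k) v, M.t_mem k _ v.2⟩
      left_inv := fun v => Subtype.ext (M.t_sq k _)
      right_inv := fun v => Subtype.ext (M.t_sq k _) }

theorem dl_apply_mem (a : Fin 27) (i : Fin 14) {v : V} (hv : v ∈ M.R i) : M.ρ (sEl a) v ∈ M.R i := by
  obtain ⟨u, rfl⟩ := LinearMap.mem_range.1 hv
  refine LinearMap.mem_range.2 ⟨M.ρ (sEl a) u, ?_⟩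
  rw [← End_mul_apply, ← End_mul_apply, En_comm]

theorem fixed_zero (i : Fin 13) {v : V} (hv : v ∈ M.R i.castSucc) (h : M.ρ (sEl (mv i.castSucc)) v = v) :
    v = 0 := by
  obtain ⟨u, hu⟩ := LinearMap.mem_range.1 hv
  have e : En M.ρ (cv (cv (dl (mv i.castSucc)) (dl 0 + dl (mv i.castSucc))) (fW i.castSucc)) u = v := by
    rw [fW_mv, hu]
  rw [← En_mul, ← En_mul, En_add, En_one, En_dl, End_mul_apply, End_mul_apply, hu] at e
  rw [← e, LinearMap.add_apply]
  have hz : (1 : _root_.Module.End (ZMod 2) V) v + M.ρ (sEl (mv i.castSucc)) v = 0 := by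
    rw [h]
    show v + v = 0
    rw [← two_smul (ZMod 2) v, show (2 : ZMod 2) = 0 from rfl, zero_smul]
  rw [hz, map_zero]

theorem mv_cube (a : Fin 27) : sEl a * sEl a * sEl a = 1 := by
  rw [sEl_mul, sEl_mul, show sAdd (sAdd a a) a = 0 from by revert a; decide +kernel, sEl_zero]

theorem n_cases (i : Fin 13) : M.n i.castSucc = 1 ∨ 4 ≤ M.n i.castSucc := by
  haveI := M.finite
  by_cases h : ∀ v ∈ M.R i.castSucc, v = 0
  · left
    exact Nat.card_eq_one_iff_unique.2 ⟨⟨fun a b => Subtype.ext ((h _ a.2).trans (h _ b.2).symm)⟩, ⟨0⟩⟩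
  · right
    push Not at h
    obtain ⟨v, hv, hv0⟩ := h
    set s := M.ρ (sEl (mv i.castSucc)) with hs
    have h1 : s v ≠ v := fun e => hv0 (M.fixed_zero i hv e)
    have h3 : s (s (s v)) = v := by
      rw [hs, ← End_mul_apply, ← End_mul_apply, ← map_mul, ← map_mul, mv_cube, map_one]
      rfl
    have hinj : ∀ {a b : V}, s a = s b → a = b := fun {a b} e => by
      have ha : s (s (s a)) = a := by
        rw [hs, ← End_mul_apply, ← End_mul_apply, ← map_mul, ← map_mul, mv_cube, map_one]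
        rfl
      have hb : s (s (s b)) = b := by
        rw [hs, ← End_mul_apply, ← End_mul_apply, ← map_mul, ← map_mul, mv_cube, map_one]
        rfl
      rw [← ha, e, hb]
    have h2 : s (s v) ≠ v := fun e => h1 (by rw [e] at h3; exact h3)
    have h4 : s (s v) ≠ s v := fun e => h1 (hinj e)
    have h5 : s v ≠ 0 := fun e => hv0 (hinj (e.trans (map_zero s).symm))
    have h6 : s (s v) ≠ 0 := fun e => h5 (hinj (e.trans (map_zero s).symm))
    let f : Fin 4 → M.R i.castSucc :=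
      ![0, ⟨v, hv⟩, ⟨s v, M.dl_apply_mem _ _ hv⟩, ⟨s (s v), M.dl_apply_mem _ _ (M.dl_apply_mem _ _ hv)⟩]
    have hf : Function.Injective f := by
      intro a b e
      fin_cases a <;> fin_cases b <;>
        first
          | rfl
          | exact absurd (congrArg Subtype.val e) (by
              first
                | exact hv0.symm | exact hv0 | exact h5.symm | exact h5 | exact h6.symm | exact h6
                | exact h1.symm | exact h1 | exact h2.symm | exact h2 | exact h4.symm | exact h4)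
    have := Nat.card_le_card_of_injective f hf
    rwa [Nat.card_fin] at this

theorem n_eq : M.n 1 = M.n 0 ∧ M.n 2 = M.n 0 ∧ M.n 3 = M.n 0 ∧ M.n 5 = M.n 4 ∧ M.n 6 = M.n 4 ∧
    M.n 8 = M.n 7 ∧ M.n 9 = M.n 7 ∧ M.n 10 = M.n 7 ∧ M.n 11 = M.n 7 ∧ M.n 12 = M.n 7 := by
  have a1 : M.n 1 = M.n 0 := M.n_t 0 0
  have a2 : M.n 2 = M.n 1 := M.n_t 1 1
  have a3 : M.n 3 = M.n 2 := M.n_t 2 2
  have b1 : M.n 5 = M.n 4 := M.n_t 1 4
  have b2 : M.n 6 = M.n 5 := M.n_t 0 5
  have d1 : M.n 8 = M.n 7 := M.n_t 1 7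
  have d2 : M.n 9 = M.n 8 := M.n_t 2 8
  have d3 : M.n 10 = M.n 8 := M.n_t 0 8
  have d4 : M.n 11 = M.n 9 := M.n_t 0 9
  have d5 : M.n 12 = M.n 11 := M.n_t 1 11
  omega

/-- The pieces of the first kind fill the module. -/
def IsNat : Prop := M.n 0 = 4 ∧ ∀ i : Fin 14, 4 ≤ i.val → M.n i = 1

/-- The trivial piece has order four. -/
def IsSplit : Prop := M.n 13 = 4 ∧ ∀ i : Fin 14, i.val < 4 ∨ 7 ≤ i.val ∧ i.val < 13 → M.n i = 1

theorem nat_or_split : M.IsNat ∨ M.IsSplit := by
  obtain ⟨e1, e2, e3, e5, e6, e8, e9, e10, e11, e12⟩ := M.n_eq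
  have hp := M.prod_n
  rw [Fin.prod_univ_castSucc, Fin.prod_univ_succ, Fin.prod_univ_succ, Fin.prod_univ_succ, Fin.prod_univ_succ,
    Fin.prod_univ_succ, Fin.prod_univ_succ, Fin.prod_univ_succ, Fin.prod_univ_succ, Fin.prod_univ_succ,
    Fin.prod_univ_succ, Fin.prod_univ_succ, Fin.prod_univ_succ, Fin.prod_univ_succ] at hp
  simp only [Fin.prod_univ_zero, mul_one] at hp
  change M.n 0 * (M.n 1 * (M.n 2 * (M.n 3 * (M.n 4 * (M.n 5 * (M.n 6 * (M.n 7 * (M.n 8 * (M.n 9 * (M.n 10 *
    (M.n 11 * M.n 12))))))))))) * M.n 13 = 256 at hp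
  rw [e1, e2, e3, e5, e6, e8, e9, e10, e11, e12] at hp
  have c0 : M.n 0 = 1 ∨ 4 ≤ M.n 0 := M.n_cases 0
  have c4 : M.n 4 = 1 ∨ 4 ≤ M.n 4 := M.n_cases 4
  have c7 : M.n 7 = 1 ∨ 4 ≤ M.n 7 := M.n_cases 7
  have hall : ∀ i, M.n i = (![M.n 0, M.n 0, M.n 0, M.n 0, M.n 4, M.n 4, M.n 4, M.n 7, M.n 7, M.n 7, M.n 7, M.n 7,
      M.n 7, M.n 13] : Fin 14 → ℕ) i := by
    intro i
    fin_cases i <;> first
      | rfl | exact e1 | exact e2 | exact e3 | exact e5 | exact e6 | exact e8 | exact e9 | exact e10 | exact e11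
      | exact e12
  generalize ha : M.n 0 = a at *
  generalize hb : M.n 4 = b at *
  generalize hd : M.n 7 = d at *
  generalize hk : M.n 13 = k at *
  have hp' : a ^ 4 * b ^ 3 * d ^ 6 * k = 256 := by rw [← hp]; ring
  have hk0 : 0 < k := Nat.pos_of_ne_zero fun e => by rw [e, mul_zero] at hp'; omega
  have ha0 : 0 < a := by rcases c0 with h | h <;> omega
  have hb0 : 0 < b := by rcases c4 with h | h <;> omega
  have hd0 : 0 < d := by rcases c7 with h | h <;> omega
  have hd1 : d = 1 := by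
    rcases c7 with h | h
    · exact h
    · exfalso
      have h1 : 4 ^ 6 ≤ d ^ 6 := Nat.pow_le_pow_left h 6
      have h2 : d ^ 6 ≤ a ^ 4 * b ^ 3 * d ^ 6 * k := by
        calc d ^ 6 = 1 * d ^ 6 * 1 := by ring
          _ ≤ a ^ 4 * b ^ 3 * d ^ 6 * k :=
            Nat.mul_le_mul (Nat.mul_le_mul (Nat.mul_pos (pow_pos ha0 4) (pow_pos hb0 3)) le_rfl) hk0
      omega
  subst hd1
  rw [one_pow, mul_one] at hp'
  have hal : a < 5 := by
    by_contra h
    have h1 : 5 ^ 4 ≤ a ^ 4 := Nat.pow_le_pow_left (by omega) 4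
    have h2 : a ^ 4 ≤ a ^ 4 * b ^ 3 * k := by
      rw [mul_assoc]; exact Nat.le_mul_of_pos_right _ (Nat.mul_pos (pow_pos hb0 3) hk0)
    omega
  have hbl : b < 7 := by
    by_contra h
    have h1 : 7 ^ 3 ≤ b ^ 3 := Nat.pow_le_pow_left (by omega) 3
    have h2 : b ^ 3 ≤ a ^ 4 * b ^ 3 * k :=
      le_trans (Nat.le_mul_of_pos_left _ (pow_pos ha0 4)) (Nat.le_mul_of_pos_right _ hk0)
    omega
  interval_cases a
  · interval_cases b
    · exfalso
      refine cE_ne_one (M.inj ?_)
      rw [map_one]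
      refine LinearMap.ext fun v => ?_
      rw [← M.sum_proj v, map_sum, map_sum]
      refine Finset.sum_congr rfl fun i _ => ?_
      by_cases hi : i = 13
      · subst hi
        rw [← sEl_c, ← En_dl, ← End_mul_apply, En_mul, fW_last]
        rfl
      · have h1 : M.n i = 1 := by
          have hv : i.val ≠ 13 := fun e => hi (Fin.ext e)
          rw [hall]
          fin_cases i <;> simp at hv ⊢
        haveI : Subsingleton (M.R i) := (Nat.card_eq_one_iff_unique.1 h1).1
        have e : En M.ρ (fW i) v = 0 :=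
          congrArg Subtype.val (Subsingleton.elim (⟨_, ⟨v, rfl⟩⟩ : M.R i) 0)
        rw [e, map_zero, map_zero]
    all_goals first
      | (exfalso; omega)
      | exact Or.inr ⟨by omega, fun i hi => by rw [hall]; fin_cases i <;> simp at hi ⊢ <;> omega⟩
  all_goals first
    | (exfalso; omega)
    | (interval_cases b <;> first
        | (exfalso; omega)
        | exact Or.inl ⟨by omega, fun i hi => by rw [hall]; fin_cases i <;> simp at hi ⊢ <;> omega⟩)

end Mod

end CfsgLib.USixType.Module
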