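import Cfsg.Agent.Lib.USixType.Module.Cases
import Cfsg.Agent.Lib.Classical.SpSimple

/-!
# The split case: an invariant projection onto a trivial plane
-/

set_option autoImplicit false
set_option maxRecDepth 100000

namespace CfsgLib.USixType.Module

open CfsgLib.U62Type

local notation "SU4" => Cfsg.SU 4 F4 2

variable {V : Type*} [AddCommGroup V] [_root_.Module (ZMod 2) V] {q : QuadraticForm (ZMod 2) V} (M : Mod q)

theorem split_identity : dl 0 + dl (cIx 0) + dl (sMk 2 0 0) = fW 0 + fW 7 + fW 8 + fW 9 + fW 13 := by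
  decide +kernel

namespace Mod

/-- The projection. -/
def P : _root_.Module.End (ZMod 2) V := En M.ρ (fW 13)

variable (hS : M.IsSplit)
include hS

theorem P_eq : M.P = 1 + M.ρ (cE 0) + M.ρ (cE 0) * M.ρ (cE 0) := by
  have hd : ∀ i : Fin 14, (i.val < 4 ∨ 7 ≤ i.val ∧ i.val < 13) → En M.ρ (fW i) = 0 := fun i hi => by
    refine LinearMap.ext fun v => ?_
    haveI : Subsingleton (M.R i) := (Nat.card_eq_one_iff_unique.1 (hS.2 i hi)).1
    exact congrArg Subtype.val (Subsingleton.elim (⟨_, ⟨v, rfl⟩⟩ : M.R i) 0)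
  have h := congrArg (En M.ρ) split_identity
  rw [En_add, En_add, En_one, En_dl, En_dl, En_add, En_add, En_add, En_add, hd 0 (by decide), hd 7 (by decide),
    hd 8 (by decide), hd 9 (by decide), zero_add, zero_add, zero_add, zero_add, sEl_c,
    show sEl (sMk 2 0 0) = cE 0 * cE 0 by rw [← sEl_c, sEl_mul]; rfl, map_mul] at h
  exact h.symm

theorem P_comm (γ : SU4) : M.ρ γ * M.P = M.P * M.ρ γ := by
  let H : Subgroup SU4 :=
    { carrier := {γ | M.ρ γ * M.P = M.P * M.ρ γ}
      one_mem' := by simp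
      mul_mem' := fun {a b} (ha : _ = _) (hb : _ = _) => by
        show _ = _
        rw [map_mul, mul_assoc, hb, ← mul_assoc, ha, mul_assoc]
      inv_mem' := fun {a} (ha : _ = _) => by
        show _ = _
        have h1 : M.ρ a⁻¹ * M.ρ a = 1 := by rw [← map_mul, inv_mul_cancel, map_one]
        have h2 : M.ρ a * M.ρ a⁻¹ = 1 := by rw [← map_mul, mul_inv_cancel, map_one]
        calc M.ρ a⁻¹ * M.P = M.ρ a⁻¹ * (M.P * M.ρ a) * M.ρ a⁻¹ := by rw [mul_assoc, mul_assoc, h2, mul_one]
          _ = M.ρ a⁻¹ * (M.ρ a * M.P) * M.ρ a⁻¹ := by rw [ha]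
          _ = M.P * M.ρ a⁻¹ := by rw [← mul_assoc, h1, one_mul] }
  have : H = ⊤ := by
    refine closure_gens (fun i => ?_) (fun k => ?_) ?_
    · show _ = _
      rw [← sEl_c, Mod.P, En_comm]
    · show _ = _
      have h : M.ρ (tE k) * M.P * M.ρ (tE k) = M.P := by
        rw [Mod.P, En_t, fW_t k 13, show wT k 13 = 13 from by revert k; decide]
      calc M.ρ (tE k) * M.P = M.ρ (tE k) * M.P * (M.ρ (tE k) * M.ρ (tE k)) := by
            rw [← map_mul, tE_sq, map_one, mul_one]
        _ = M.P * M.ρ (tE k) := by rw [← mul_assoc, h]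
    · show _ = _
      rw [M.P_eq hS]
      simp only [mul_add, add_mul, mul_one, one_mul, ← map_mul, ← mul_assoc, gE_comm]
      rw [mul_assoc (cE 0) gE (cE 0), gE_comm, ← mul_assoc]
  exact this.ge (Subgroup.mem_top γ)

omit hS in
theorem P_idem : M.P * M.P = M.P := by rw [Mod.P, En_mul, fW_mul, if_pos rfl]

theorem P_card : Nat.card (LinearMap.range M.P) = 4 := hS.1

theorem P_fixed [IsSimpleGroup SU4] (γ : SU4) (v : V) : M.ρ γ (M.P v) = M.P v := by
  let H : Subgroup SU4 :=
    { carrier := {γ | ∀ v, M.ρ γ (M.P v) = M.P v}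
      one_mem' := fun v => by rw [map_one]; rfl
      mul_mem' := fun {a b} (ha : ∀ v, M.ρ a (M.P v) = M.P v) (hb : ∀ v, M.ρ b (M.P v) = M.P v) v => by
        rw [map_mul, Mod.End_mul_apply, hb, ha]
      inv_mem' := fun {a} (ha : ∀ v, M.ρ a (M.P v) = M.P v) v => by
        conv_lhs => rw [← ha v]
        rw [← Mod.End_mul_apply, ← map_mul, inv_mul_cancel, map_one]
        rfl }
  haveI : H.Normal := ⟨fun a (ha : ∀ v, M.ρ a (M.P v) = M.P v) g v => by
    have hg : M.ρ g⁻¹ (M.P v) = M.P (M.ρ g⁻¹ v) := by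
      rw [← Mod.End_mul_apply, M.P_comm hS]; rfl
    rw [map_mul, map_mul, Mod.End_mul_apply, Mod.End_mul_apply, hg, ha, ← hg, ← Mod.End_mul_apply,
      ← map_mul, mul_inv_cancel, map_one]
    rfl⟩
  have hc : cE 0 ∈ H := fun v => by
    rw [← Mod.End_mul_apply, Mod.P, ← sEl_c, ← En_dl, En_mul, fW_last]
  rcases Subgroup.Normal.eq_bot_or_eq_top (H := H) inferInstance with h | h
  · exact absurd (Subgroup.mem_bot.1 (h ▸ hc)) cE_ne_one
  · exact (h ▸ Subgroup.mem_top γ : γ ∈ H) v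

end Mod

end CfsgLib.USixType.Module
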