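import Cfsg.Agent.Lib.USixType.Module.Natural
import Cfsg.Agent.Lib.USixType.Module.Split
import Cfsg.Agent.Lib.SuzType.Hyp

/-!
# An extraspecial group of order `2^9` acted on by `SU₄(2)`: natural coordinates, or a split product
-/

set_option autoImplicit false
set_option linter.style.haveILetI false
set_option linter.unusedSectionVars false
set_option maxRecDepth 4000

namespace CfsgLib.USixType.Module

open CfsgLib.U62Type Cfsg Subgroup CfsgLib.Classical
open CfsgLib.PSUAut (act)
open CfsgLib.LargeExtra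

local notation "SU4" => Cfsg.SU 4 F4 2
local notation "V4" => Fin 4 → F4

variable {C : Type*} [Group C] [Finite C]

/-- Coordinates of `J` in the natural module. -/
structure CoordData (J : Subgroup C) (zc : C) where
  /-- The action. -/
  ρ : C →* SU4
  surj : Function.Surjective ρ
  ker : ρ.ker = J
  /-- The coordinates. -/
  χ : ↥J → V4
  χ_mul : ∀ x y, χ (x * y) = χ x + χ y
  χ_surj : Function.Surjective χ
  χ_ker : ∀ x : ↥J, χ x = 0 ↔ (x : C) = 1 ∨ (x : C) = zc
  χ_sq : ∀ x : ↥J, Cfsg.hermForm 4 F4 2 (χ x) (χ x) = 0 ↔ (x : C) * x = 1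
  χ_equiv : ∀ (c : C) (x y : ↥J), (y : C) = c * x * c⁻¹ → χ y = act (ρ c) (χ x)

/-- `J` is the product of an invariant group of order eight and one of order `2^7`. -/
def SplitData (J : Subgroup C) (zc : C) : Prop :=
  ∃ J2 J6 : Subgroup C, J2.Normal ∧ J6.Normal ∧ zc ∈ J2 ∧ zc ∈ J6 ∧ Nat.card J2 = 8 ∧ Nat.card J6 = 128 ∧
    J2 ≤ J ∧ J6 ≤ J ∧ J2 ⊔ J6 = J ∧ J2 ⊓ J6 = zpowers zc ∧ (∀ x ∈ J2, ∀ y ∈ J6, x * y = y * x) ∧
    ∀ c, ∀ x ∈ J2, c * x * c⁻¹ = x ∨ c * x * c⁻¹ = x * zc

theorem of_chart {κ : Type} [Fintype κ] [DecidableEq κ] (q : QuadraticForm (ZMod 2) (κ → ZMod 2))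
    (J : Subgroup C) [J.Normal] (hJ : IsExtraspecial 2 J) (hJc : Nat.card J = 2 ^ 9) {zc : C} {z : ↥J}
    (hz : (z : C) = zc) (hzcen : z ∈ center ↥J) (hfix : ∀ c : C, c * zc = zc * c)
    (hself : ∀ c : C, (∀ x ∈ J, c * x = x * c) → c ∈ J) (Ch : OutExtra.Chart J (⇑q) z)
    [IsSimpleGroup SU4] (ι : SU4 ≃* C ⧸ J) : Nonempty (CoordData J zc) ∨ SplitData J zc := by
  classical
  have hfix' : ∀ c : C, c * (z : C) * c⁻¹ = z := fun c => by rw [hz, hfix, mul_inv_cancel_right]
  obtain ⟨r, hr, hπ⟩ := CfsgLib.SuzType.exists_chart_action q J hJ hzcen hfix' hself Ch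
  have hπ1 : Ch.π 1 = 0 := Ch.pi_one
  let rb : C ⧸ J →* qAut q := QuotientGroup.lift J r hr.ge
  have hrb : Function.Injective rb := by
    rw [injective_iff_map_eq_one]
    intro x hx
    obtain ⟨c, rfl⟩ := QuotientGroup.mk'_surjective J x
    exact (QuotientGroup.eq_one_iff c).2 (hr.le hx)
  let toEnd : qAut q →* _root_.Module.End (ZMod 2) (κ → ZMod 2) :=
    { toFun := fun φ => φ.1.toLinearMap
      map_one' := rfl
      map_mul' := fun a b => rfl }
  have htoEnd : Function.Injective toEnd := fun a b h => qAut_ext fun v => LinearMap.congr_fun h v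
  have hcomm : ∀ x y : ↥J, QuadraticMap.polar q (Ch.π x) (Ch.π y) = 0 → x * y = y * x := by
    intro x y h
    have e : q (Ch.π (x * y)) = q (Ch.π x) + q (Ch.π y) := by
      rw [Ch.pi_mul, QuadraticMap.map_add q, h, add_zero]
    let zp : ZMod 2 → ↥J := fun a => if a = 0 then 1 else z
    have hzp : ∀ a b, zp (a + b) = zp a * zp b := fun a b => by
      rcases OutExtra.two_cases a with rfl | rfl <;> rcases OutExtra.two_cases b with rfl | rfl <;>
        simp [zp, Ch.z_sq, show (1 : ZMod 2) + 1 = 0 from rfl]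
    have s1 : x * y * (x * y) = x * x * (y * y) := by
      rw [Ch.sq_eq (x * y), Ch.sq_eq x, Ch.sq_eq y]
      show zp (q (Ch.π (x * y))) = zp (q (Ch.π x)) * zp (q (Ch.π y))
      rw [e, hzp]
    have s2 : y * x = x * y := by
      have h' : x * (y * x) * y = x * (x * y) * y := by
        rw [show x * (y * x) * y = x * y * (x * y) by group, s1]; group
      exact mul_left_cancel (mul_right_cancel h')
    exact s2.symm
  have hnd : ∀ v : κ → ZMod 2, v ≠ 0 → ∃ w, q (v + w) ≠ q v + q w := by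
    intro v hv
    by_contra hne
    push Not at hne
    obtain ⟨x, rfl⟩ := Ch.surj v
    have hx : x ∈ center ↥J := mem_center_iff.2 fun y => (hcomm x y (by
      rw [QuadraticMap.polar, hne, sub_sub, sub_self])).symm
    exact hv ((Ch.ker_iff x).2 (Ch.center_le hJ hzcen x hx))
  -- the order of the space
  have hcardV : Nat.card (κ → ZMod 2) = 256 := by
    have h : Nat.card ↥J = Nat.card (κ → ZMod 2) * 2 := by
      let f : ↥J →* Multiplicative (κ → ZMod 2) :=
        MonoidHom.mk' (fun x => Multiplicative.ofAdd (Ch.π x)) fun x y => by rw [Ch.pi_mul]; rfl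
      have hk : Nat.card f.ker = 2 := by
        have e : (f.ker : Set ↥J) = {1, z} := by
          ext x
          rw [SetLike.mem_coe, MonoidHom.mem_ker]
          exact Ch.ker_iff x
        show Nat.card ↥(f.ker : Set ↥J) = 2
        rw [e, Nat.card_coe_set_eq, Set.ncard_pair (Ne.symm Ch.z_ne)]
      have hs : Nat.card f.range = Nat.card (κ → ZMod 2) := by
        rw [MonoidHom.range_eq_top.2 fun w => ?_, Subgroup.card_top]
        · rfl
        · obtain ⟨x, hx⟩ := Ch.surj w.toAdd
          exact ⟨x, congrArg Multiplicative.ofAdd hx⟩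
      rw [← f.ker.index_mul_card, Subgroup.index_ker, hs, hk]
    omega
  let M : Mod q :=
    { ρ := toEnd.comp (rb.comp ι.toMonoidHom)
      inj := htoEnd.comp (hrb.comp ι.injective)
      inv := fun g v => (rb (ι g)).2 v
      nondeg := hnd
      card := hcardV }
  have hact : ∀ (c : C) (x : ↥J), Ch.π (MulAut.conjNormal c x) = M.ρ (ι.symm (QuotientGroup.mk' J c)) (Ch.π x) :=
    fun c x => by
      show _ = (rb (ι (ι.symm (QuotientGroup.mk' J c)))).1 (Ch.π x)
      rw [ι.apply_symm_apply]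
      exact hπ c x
  rcases M.nat_or_split with hN | hS
  · left
    obtain ⟨θ, ψ, hθ, hθψ, hq⟩ := M.main hN
    let θe := MulEquiv.ofBijective θ hθ
    refine ⟨⟨(θe.toMonoidHom.comp ι.symm.toMonoidHom).comp (QuotientGroup.mk' J),
      θe.surjective.comp (ι.symm.surjective.comp (QuotientGroup.mk'_surjective J)), ?_,
      fun x => ψ.symm (Ch.π x), fun x y => by rw [Ch.pi_mul, map_add], ψ.symm.surjective.comp Ch.surj,
      fun x => ?_, fun x => ?_, fun c x y hy => ?_⟩⟩
    · ext c
      rw [MonoidHom.mem_ker, MonoidHom.comp_apply, MonoidHom.comp_apply]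
      show θe (ι.symm (QuotientGroup.mk' J c)) = 1 ↔ c ∈ J
      rw [map_eq_one_iff _ θe.injective, map_eq_one_iff _ ι.symm.injective]
      exact QuotientGroup.eq_one_iff c
    · rw [map_eq_zero_iff _ ψ.symm.injective, Ch.ker_iff]
      refine or_congr ⟨fun h => by rw [h]; rfl, fun h => Subtype.ext h⟩ ⟨fun h => by rw [h, hz], fun h => Subtype.ext (h.trans hz.symm)⟩
    · have h := hq (ψ.symm (Ch.π x))
      rw [AddEquiv.apply_symm_apply] at h
      have hsq := congrArg Subtype.val (Ch.sq_eq x)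
      rw [Subgroup.coe_mul] at hsq
      rw [hsq, show (Ch.π x) = Ch.π x from rfl, h]
      have hzc1 : zc ≠ 1 := fun h1 => Ch.z_ne (Subtype.ext (hz.trans h1))
      by_cases h0 : Cfsg.hermForm 4 F4 2 (ψ.symm (Ch.π x)) (ψ.symm (Ch.π x)) = 0 <;> simp [h0, hz, hzc1]
    · have e : y = MulAut.conjNormal c x := Subtype.ext (by rw [MulAut.conjNormal_apply, hy])
      refine ψ.injective ?_
      rw [e, AddEquiv.apply_symm_apply, hact, ← AddEquiv.apply_symm_apply ψ (Ch.π x), hθψ,
        AddEquiv.apply_symm_apply]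
      rfl
  · right
    obtain ⟨P, hPM⟩ : ∃ P : (κ → ZMod 2) →ₗ[ZMod 2] (κ → ZMod 2), P = M.P := ⟨_, rfl⟩
    have hPP : ∀ v, P (P v) = P v := fun v => by rw [hPM]; exact LinearMap.congr_fun M.P_idem v
    have hPc : ∀ (c : C) (x : ↥J), P (Ch.π (MulAut.conjNormal c x)) = M.ρ (ι.symm (QuotientGroup.mk' J c)) (P (Ch.π x)) :=
      fun c x => by
        rw [hact, hPM]
        exact (LinearMap.congr_fun (M.P_comm hS (ι.symm (QuotientGroup.mk' J c))) (Ch.π x)).symm
    let mkA : (p : (κ → ZMod 2) → Prop) → p 0 → (∀ a b, p a → p b → p (a + b)) → Subgroup ↥J :=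
      fun p h0 hadd =>
        { carrier := {x | p (Ch.π x)}
          one_mem' := by show p (Ch.π 1); rwa [hπ1]
          mul_mem' := fun {a b} ha hb => by show p (Ch.π (a * b)); rw [Ch.pi_mul]; exact hadd _ _ ha hb
          inv_mem' := fun {a} ha => by show p (Ch.π a⁻¹); rwa [show Ch.π a⁻¹ = Ch.π a from Ch.pi_inv a] }
    let A := mkA (fun v => P v = v) (map_zero P) fun a b ha hb => by rw [map_add, ha, hb]
    let B := mkA (fun v => P v = 0) (map_zero P) fun a b ha hb => by rw [map_add, ha, hb, add_zero]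
    have hA : ∀ x, x ∈ A ↔ P (Ch.π x) = Ch.π x := fun x => Iff.rfl
    have hB : ∀ x, x ∈ B ↔ P (Ch.π x) = 0 := fun x => Iff.rfl
    have hπz : Ch.π z = 0 := (Ch.ker_iff z).2 (.inr rfl)
    have hzA : z ∈ A := by rw [hA, hπz, map_zero]
    have hzB : z ∈ B := by rw [hB, hπz, map_zero]
    have hPcard : Nat.card (LinearMap.range P) = 4 := by rw [hPM]; exact M.P_card hS
    let f : ↥J →* Multiplicative (LinearMap.range P) :=
      MonoidHom.mk' (fun x => Multiplicative.ofAdd ⟨P (Ch.π x), ⟨Ch.π x, rfl⟩⟩) fun x y => by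
        refine congrArg Multiplicative.ofAdd (Subtype.ext ?_)
        show P (Ch.π (x * y)) = P (Ch.π x) + P (Ch.π y)
        rw [Ch.pi_mul, map_add]
    have hf : ∀ (x : ↥J) (v : LinearMap.range P), f x = Multiplicative.ofAdd v ↔ P (Ch.π x) = v := fun x v =>
      ⟨fun h => congrArg Subtype.val (Multiplicative.ofAdd.injective h), fun h => congrArg Multiplicative.ofAdd (Subtype.ext h)⟩
    have hfA : ∀ v : Multiplicative (LinearMap.range P), ∃ x ∈ A, f x = v := fun v => by
      obtain ⟨x, hx⟩ := Ch.surj v.toAdd.1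
      obtain ⟨u, hu⟩ := LinearMap.mem_range.1 v.toAdd.2
      have hP : P (Ch.π x) = Ch.π x := by rw [show Ch.π x = v.toAdd.1 from hx, ← hu, hPP]
      exact ⟨x, hP, (hf x v.toAdd).2 (hP.trans hx)⟩
    have hcB : Nat.card B = 128 := by
      have e : f.ker = B := by
        ext x
        rw [MonoidHom.mem_ker, hB]
        exact hf x 0
      have h := f.ker.index_mul_card
      rw [Subgroup.index_ker, MonoidHom.range_eq_top.2 (fun v => (hfA v).elim fun x hx => ⟨x, hx.2⟩),
        Subgroup.card_top, show Nat.card (Multiplicative (LinearMap.range P)) = 4 from hPcard, hJc, e] at h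
      omega
    have hcA : Nat.card A = 8 := by
      have h := (f.comp A.subtype).ker.index_mul_card
      rw [Subgroup.index_ker, MonoidHom.range_eq_top.2 (fun v => (hfA v).elim fun x hx => ⟨⟨x, hx.1⟩, hx.2⟩),
        Subgroup.card_top, show Nat.card (Multiplicative (LinearMap.range P)) = 4 from hPcard] at h
      have hk : Nat.card (f.comp A.subtype).ker = 2 := by
        have e : ((f.comp A.subtype).ker : Set ↥A) = {1, ⟨z, hzA⟩} := by
          ext x
          rw [SetLike.mem_coe, MonoidHom.mem_ker]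
          show f (x : ↥J) = 1 ↔ _
          rw [show (1 : Multiplicative (LinearMap.range P)) = Multiplicative.ofAdd 0 from rfl, hf]
          show P (Ch.π x) = 0 ↔ _
          rw [(x.2 : P (Ch.π x) = Ch.π x), Ch.ker_iff]
          simp only [Set.mem_insert_iff, Set.mem_singleton_iff]
          exact or_congr ⟨fun h => Subtype.ext h, fun h => congrArg Subtype.val h⟩ ⟨fun h => Subtype.ext h, fun h => congrArg Subtype.val h⟩
        show Nat.card ↥((f.comp A.subtype).ker : Set ↥A) = 2
        rw [e, Nat.card_coe_set_eq, Set.ncard_pair]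
        exact fun h => Ch.z_ne (congrArg Subtype.val h).symm
      omega
    have hself' : ∀ u v, QuadraticMap.polar q (P u) v = QuadraticMap.polar q u (P v) := by
      intro u v
      have hinv : ∀ a b, QuadraticMap.polar q (M.ρ (cE 0) a) (M.ρ (cE 0) b) = QuadraticMap.polar q a b :=
        fun a b => by simp only [QuadraticMap.polar, ← map_add, M.inv]
      have h3 : ∀ a, M.ρ (cE 0) (M.ρ (cE 0) (M.ρ (cE 0) a)) = a := fun a => by
        rw [← Mod.End_mul_apply, ← Mod.End_mul_apply, ← map_mul, ← map_mul, cE_cube, map_one]; rfl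
      have hP : ∀ a, P a = a + M.ρ (cE 0) a + M.ρ (cE 0) (M.ρ (cE 0) a) := fun a => by
        rw [hPM, M.P_eq hS]; rfl
      have e1 : QuadraticMap.polar q (M.ρ (cE 0) u) v = QuadraticMap.polar q u (M.ρ (cE 0) (M.ρ (cE 0) v)) := by
        conv_lhs => rw [← h3 v]
        rw [hinv]
      have e2 : QuadraticMap.polar q (M.ρ (cE 0) (M.ρ (cE 0) u)) v = QuadraticMap.polar q u (M.ρ (cE 0) v) := by
        conv_lhs => rw [← h3 v]
        rw [hinv, hinv]
      rw [hP, hP, QuadraticMap.polar_add_left, QuadraticMap.polar_add_left, QuadraticMap.polar_add_right,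
        QuadraticMap.polar_add_right, e1, e2]
      abel
    refine ⟨A.map J.subtype, B.map J.subtype, ?_, ?_, ⟨z, hzA, hz⟩, ⟨z, hzB, hz⟩,
      by rw [card_map_of_injective J.subtype_injective, hcA],
      by rw [card_map_of_injective J.subtype_injective, hcB], map_subtype_le A, map_subtype_le B, ?_, ?_, ?_, ?_⟩
    · refine ⟨?_⟩
      rintro _ ⟨x, hx, rfl⟩ c
      refine ⟨MulAut.conjNormal c x, ?_, MulAut.conjNormal_apply c x⟩
      rw [SetLike.mem_coe, hA, hPc, (hA x).1 hx, ← hact]
    · refine ⟨?_⟩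
      rintro _ ⟨x, hx, rfl⟩ c
      refine ⟨MulAut.conjNormal c x, ?_, MulAut.conjNormal_apply c x⟩
      rw [SetLike.mem_coe, hB, hPc, (hB x).1 hx, map_zero]
    · refine le_antisymm (sup_le (map_subtype_le A) (map_subtype_le B)) fun c hc => ?_
      obtain ⟨a, ha, e⟩ := hfA (f ⟨c, hc⟩)
      have e' : P (Ch.π a) = P (Ch.π ⟨c, hc⟩) := congrArg Subtype.val (Multiplicative.ofAdd.injective e)
      have hb : a⁻¹ * ⟨c, hc⟩ ∈ B := by
        rw [hB, show Ch.π (a⁻¹ * ⟨c, hc⟩) = Ch.π a + Ch.π ⟨c, hc⟩ by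
          show Ch.π _ = _; rw [Ch.pi_mul, Ch.pi_inv], map_add, e']
        exact funext fun i => CharTwo.add_self_eq_zero _
      have := mul_mem_sup (mem_map_of_mem J.subtype ha) (mem_map_of_mem J.subtype hb)
      simpa using this
    · rw [← map_inf _ _ _ J.subtype_injective]
      ext c
      rw [mem_map, mem_zpowers_iff]
      constructor
      · rintro ⟨x, ⟨hxA, hxB⟩, rfl⟩
        have h0 : Ch.π x = 0 := by rw [← (hA x).1 hxA, (hB x).1 hxB]
        rcases (Ch.ker_iff x).1 h0 with rfl | rfl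
        · exact ⟨0, by simp⟩
        · exact ⟨1, by simp [hz]⟩
      · rintro ⟨k, rfl⟩
        refine ⟨z ^ k, Subgroup.zpow_mem _ (Subgroup.mem_inf.2 ⟨hzA, hzB⟩) k, ?_⟩
        rw [map_zpow]
        exact congrArg (· ^ k) hz
    · rintro _ ⟨x, hx, rfl⟩ _ ⟨y, hy, rfl⟩
      refine congrArg Subtype.val (hcomm x y ?_)
      rw [← (hA x).1 hx, hself', (hB y).1 hy]
      simp [QuadraticMap.polar]
    · rintro c _ ⟨x, hx, rfl⟩
      have e : Ch.π (x⁻¹ * MulAut.conjNormal c x) = 0 := by
        rw [show Ch.π (x⁻¹ * MulAut.conjNormal c x) = Ch.π x + Ch.π (MulAut.conjNormal c x) by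
          show Ch.π _ = _; rw [Ch.pi_mul, Ch.pi_inv], hact, ← (hA x).1 hx]
        rw [show M.ρ (ι.symm (QuotientGroup.mk' J c)) (P (Ch.π x)) = P (Ch.π x) from by rw [hPM]; exact M.P_fixed hS _ _]
        exact funext fun i => CharTwo.add_self_eq_zero _
      rcases (Ch.ker_iff _).1 e with h | h
      · left
        have := congrArg (fun w : ↥J => ((x * w : ↥J) : C)) h
        simpa [MulAut.conjNormal_apply] using this
      · right
        have := congrArg (fun w : ↥J => ((x * w : ↥J) : C)) h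
        simpa [MulAut.conjNormal_apply, hz] using this

theorem exists_coords (J : Subgroup C) [J.Normal] (hJ : IsExtraspecial 2 J) (hJc : Nat.card J = 2 ^ 9) {zc : C}
    (hzJ : zc ∈ J) (hz1 : zc ≠ 1) (hfix : ∀ c : C, c * zc = zc * c)
    (hself : ∀ c : C, (∀ x ∈ J, c * x = x * c) → c ∈ J) [IsSimpleGroup SU4] (ι : SU4 ≃* C ⧸ J) :
    Nonempty (CoordData J zc) ∨ SplitData J zc := by
  obtain ⟨z', hz', h⟩ := OutExtra.exists_chart hJ 3 (by rw [hJc])
  have hmem : (⟨zc, hzJ⟩ : ↥J) ∈ center ↥J := mem_center_iff.2 fun y => Subtype.ext (hfix y)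
  rcases h with ⟨⟨Ch⟩⟩ | ⟨⟨Ch⟩⟩
  all_goals
    rcases Ch.center_le hJ hz' ⟨zc, hzJ⟩ hmem with e | e
    · exact absurd (congrArg Subtype.val e) hz1
    · subst e
      exact of_chart _ J hJ hJc rfl hz' hfix hself Ch ι

end CfsgLib.USixType.Module
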