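import Cfsg.Agent.Lib.USixType.Module.Cases

/-!
# The natural case: coordinates over the field with four elements

The diagonal subgroup gives a scalar commuting with the whole group, and the four pieces give a basis.
-/

set_option autoImplicit false
set_option maxRecDepth 100000

namespace CfsgLib.USixType.Module

open CfsgLib.U62Type
open CfsgLib.PSUAut (act act_ext act_mul act_one)

local notation "SU4" => Cfsg.SU 4 F4 2
local notation "V4" => Fin 4 → F4
local notation "M4" => Matrix (Fin 4) (Fin 4) F4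

/-- The two coefficients of a number of the field. -/
def b0 (a : F4) : ZMod 2 := if a.v.val % 2 = 1 then 1 else 0

/-- The coefficient of `ω`. -/
def b1 (a : F4) : ZMod 2 := if a.v.val / 2 = 1 then 1 else 0

theorem b_facts : (∀ a b : F4, b0 (a + b) = b0 a + b0 b ∧ b1 (a + b) = b1 a + b1 b ∧
    b0 (a * b) = b0 a * b0 b + b1 a * b1 b ∧ b1 (a * b) = b0 a * b1 b + b1 a * b0 b + b1 a * b1 b) ∧
    (∀ a : F4, a ≠ 0 → a⁻¹ * a = 1) ∧ b0 1 = 1 ∧ b1 1 = 0 ∧ b0 0 = 0 ∧ b1 0 = 0 ∧ b0 F4.w = 0 ∧ b1 F4.w = 1 := by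
  decide +kernel

theorem F4_cases : ∀ a : F4, a = 0 ∨ a = 1 ∨ a = F4.w ∨ a = F4.w * F4.w := by decide +kernel

theorem trace_fix : ∀ a b : F4, a + a ^ 2 = b + b ^ 2 →
    F4.w * a + (F4.w * a) ^ 2 = F4.w * b + (F4.w * b) ^ 2 → a = b := by decide +kernel

theorem herm_add_self (u v : V4) : Cfsg.hermForm 4 F4 2 (u + v) (u + v) =
    Cfsg.hermForm 4 F4 2 u u + Cfsg.hermForm 4 F4 2 v v +
      (Cfsg.hermForm 4 F4 2 u v + Cfsg.hermForm 4 F4 2 u v ^ 2) := by
  rw [CfsgLib.SURadical.add_left F4.card', CfsgLib.SURadical.add_right F4.card',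
    CfsgLib.SURadical.add_right F4.card', CfsgLib.SURadical.conj_form F4.card' u v]
  ring

theorem herm_zero_one : ∀ v : V4, Cfsg.hermForm 4 F4 2 v v = 0 ∨ Cfsg.hermForm 4 F4 2 v v = 1 := by
  decide +kernel

theorem herm_digit : ∀ v : V4, (if Cfsg.hermForm 4 F4 2 v v = 0 then (0 : ZMod 2) else 1) =
    ∑ i, (if v i = 0 then (0 : ZMod 2) else 1) := by
  decide +kernel

theorem trans_sq : ∀ v : V4, Cfsg.hermForm 4 F4 2 v v = 0 → transMat v * transMat v = 1 := by
  decide +kernel

variable {V : Type*} [AddCommGroup V] [_root_.Module (ZMod 2) V] {q : QuadraticForm (ZMod 2) V} (M : Mod q)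

namespace Mod

theorem vadd_self (v : V) : v + v = 0 := by
  rw [← two_smul (ZMod 2) v, show (2 : ZMod 2) = 0 from rfl, zero_smul]

/-- The scalar. -/
def W : _root_.Module.End (ZMod 2) V := En M.ρ wF

variable (hN : M.IsNat)
include hN

theorem En_dead (i : Fin 14) (hi : 4 ≤ i.val) : En M.ρ (fW i) = 0 := by
  refine LinearMap.ext fun v => ?_
  haveI : Subsingleton (M.R i) := (Nat.card_eq_one_iff_unique.1 (hN.2 i hi)).1
  exact congrArg Subtype.val (Subsingleton.elim (⟨_, ⟨v, rfl⟩⟩ : M.R i) 0)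

theorem En_live : En M.ρ live = 1 := by
  rw [← En_one M.ρ, ← fW_sum, En_sum,
    ← Finset.sum_subset (s₁ := ({0, 1, 2, 3} : Finset (Fin 14))) (Finset.subset_univ _) fun i _ hi =>
      M.En_dead hN i (by revert hi; revert i; decide)]
  simp only [live, En_add, Finset.sum_insert (show (0 : Fin 14) ∉ ({1, 2, 3} : Finset (Fin 14)) by decide),
    Finset.sum_insert (show (1 : Fin 14) ∉ ({2, 3} : Finset (Fin 14)) by decide),
    Finset.sum_insert (show (2 : Fin 14) ∉ ({3} : Finset (Fin 14)) by decide), Finset.sum_singleton]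
  abel

theorem En_eq {f g : Fin 27 → ZMod 2} (h : cv f live = cv g live) : En M.ρ f = En M.ρ g := by
  rw [← mul_one (En M.ρ f), ← mul_one (En M.ρ g), ← M.En_live hN, En_mul, En_mul, h]

theorem W_sq : M.W * M.W = M.W + 1 := by
  have h : En M.ρ (cv wF wF + wF + dl 0) = 0 := by
    rw [← En_zero M.ρ]
    exact M.En_eq hN (by rw [w_facts.1]; decide +kernel)
  rw [En_add, En_add, ← En_mul, En_one] at h
  refine LinearMap.ext fun v => ?_
  have hv := LinearMap.congr_fun h v
  simp only [LinearMap.add_apply, LinearMap.zero_apply] at hv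
  show (M.W * M.W) v = (M.W + 1) v
  rw [LinearMap.add_apply]
  calc (M.W * M.W) v
      = (M.W * M.W) v + ((M.W v + (1 : _root_.Module.End (ZMod 2) V) v) +
          (M.W v + (1 : _root_.Module.End (ZMod 2) V) v)) := by rw [vadd_self, add_zero]
    _ = ((M.W * M.W) v + M.W v + (1 : _root_.Module.End (ZMod 2) V) v) +
          (M.W v + (1 : _root_.Module.End (ZMod 2) V) v) := by abel
    _ = _ := by
      rw [show (M.W * M.W) v + M.W v + (1 : _root_.Module.End (ZMod 2) V) v = 0 from hv, zero_add]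

theorem W_t (k : Fin 3) : M.ρ (tE k) * M.W = M.W * M.ρ (tE k) := by
  have h : M.ρ (tE k) * M.W * M.ρ (tE k) = M.W := by
    rw [W, En_t]
    exact M.En_eq hN (w_facts.2.1 k)
  calc M.ρ (tE k) * M.W = M.ρ (tE k) * M.W * (M.ρ (tE k) * M.ρ (tE k)) := by rw [← map_mul, tE_sq, map_one, mul_one]
    _ = M.W * M.ρ (tE k) := by rw [← mul_assoc, h]

theorem W_c (i : Fin 4) : M.ρ (cE i) * M.W = M.W * M.ρ (cE i) := by
  rw [← sEl_c, W, En_comm]

theorem proj_zero : En M.ρ (dl 0 + dl (cIx 0) + dl (sMk 2 0 0)) = En M.ρ (fW 0) := M.En_eq hN w_facts.2.2.1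

theorem c_on (i j : Fin 4) {v : V} (hv : v ∈ M.R (j.castLE (by norm_num))) :
    M.ρ (cE i) v = if i = j then v else M.W v := by
  have h := w_facts.2.2.2 i j
  have hp := M.proj_apply _ hv (j.castLE (by norm_num))
  rw [if_pos rfl] at hp
  split_ifs with hij
  · rw [if_pos hij] at h
    have e := M.En_eq hN h
    rw [← En_mul, En_dl, sEl_c] at e
    conv_lhs => rw [← hp]
    rw [← Mod.End_mul_apply, e, hp]
  · rw [if_neg hij] at h
    have e := M.En_eq hN h
    rw [← En_mul, ← En_mul, En_dl, sEl_c] at e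
    conv_lhs => rw [← hp]
    rw [← Mod.End_mul_apply, e, Mod.End_mul_apply, hp]
    rfl

theorem W_mem (i : Fin 14) {v : V} (hv : v ∈ M.R i) : M.W v ∈ M.R i := by
  obtain ⟨u, rfl⟩ := LinearMap.mem_range.1 hv
  have key : ∀ x, En M.ρ wF x = ∑ a, wF a • M.ρ (sEl a) x := fun x => by
    simp [En, LinearMap.sum_apply]
  have this : M.W (En M.ρ (fW i) u) = ∑ a, wF a • M.ρ (sEl a) (En M.ρ (fW i) u) := key _
  rw [this]
  exact Submodule.sum_mem _ fun a _ => Submodule.smul_mem _ _ (M.dl_apply_mem a i ⟨u, rfl⟩)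

theorem W_fixed {v : V} (h : M.W v = v) : v = 0 := by
  have e : (M.W * M.W) v = (M.W + 1) v := by rw [M.W_sq hN]
  simp only [LinearMap.add_apply, Mod.End_mul_apply] at e
  rw [h, h] at e
  calc v = v + 0 := (add_zero v).symm
    _ = 0 := by
      rw [show (1 : _root_.Module.End (ZMod 2) V) v = v from rfl, vadd_self] at e
      rw [add_zero]; exact e

theorem W_inj {u v : V} (h : M.W u = M.W v) : u = v := by
  have e : ∀ x, (1 : _root_.Module.End (ZMod 2) V) x = (M.W * M.W) x + M.W x := fun x => by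
    rw [M.W_sq hN, LinearMap.add_apply, add_right_comm, vadd_self, zero_add]
  have eu := e u
  have ev := e v
  simp only [Mod.End_mul_apply] at eu ev
  rw [h, ← ev] at eu
  exact eu

theorem four_points {i : Fin 4} {v : V} (hv : v ∈ M.R (i.castLE (by norm_num))) (h0 : v ≠ 0) {x : V}
    (hx : x ∈ M.R (i.castLE (by norm_num))) : x = 0 ∨ x = v ∨ x = M.W v ∨ x = M.W (M.W v) := by
  classical
  haveI := M.finite
  set R := M.R (i.castLE (show 4 ≤ 14 by norm_num)) with hR
  have h1 : M.W v ≠ v := fun e => h0 (M.W_fixed hN e)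
  have h5 : M.W v ≠ 0 := fun e => h0 (M.W_inj hN (e.trans (map_zero M.W).symm))
  have h6 : M.W (M.W v) ≠ 0 := fun e => h5 (M.W_inj hN (e.trans (map_zero M.W).symm))
  have h4 : M.W (M.W v) ≠ M.W v := fun e => h1 (M.W_inj hN e)
  have h2 : M.W (M.W v) ≠ v := fun e => h5 (by
    have hs : (M.W * M.W) v = (M.W + 1) v := by rw [M.W_sq hN]
    simp only [LinearMap.add_apply, Mod.End_mul_apply] at hs
    rw [e, show (1 : _root_.Module.End (ZMod 2) V) v = v from rfl] at hs
    exact add_eq_right.1 hs.symm)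
  by_contra hne
  push Not at hne
  obtain ⟨x0, x1, x2, x3⟩ := hne
  let f : Fin 5 → R := ![0, ⟨v, hv⟩, ⟨M.W v, M.W_mem hN _ hv⟩, ⟨M.W (M.W v), M.W_mem hN _ (M.W_mem hN _ hv)⟩, ⟨x, hx⟩]
  have hf : Function.Injective f := by
    intro a b e
    fin_cases a <;> fin_cases b <;>
      first
        | rfl
        | exact absurd (congrArg Subtype.val e) (by
            first
              | exact h0.symm | exact h0 | exact h5.symm | exact h5 | exact h6.symm | exact h6
              | exact h1.symm | exact h1 | exact h2.symm | exact h2 | exact h4.symm | exact h4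
              | exact x0 | exact x0.symm | exact x1 | exact x1.symm | exact x2 | exact x2.symm
              | exact x3 | exact x3.symm)
  have hle := Nat.card_le_card_of_injective f hf
  have hn : Nat.card R = 4 := by
    obtain ⟨e1, e2, e3, -⟩ := M.n_eq
    have := hN.1
    show M.n (i.castLE _) = 4
    fin_cases i <;> simp [e1, e2, e3, this] <;> assumption
  rw [Nat.card_fin, hn] at hle
  omega

theorem W_g : M.ρ gE * M.W = M.W * M.ρ gE := by
  set g := M.ρ gE with hg
  set c := M.ρ (cE 0) with hc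
  have hgc : ∀ v, g (c v) = c (g v) := fun v => by
    rw [← Mod.End_mul_apply, ← Mod.End_mul_apply, hg, hc, ← map_mul, ← map_mul, gE_comm]
  have hg3 : ∀ v, g (g (g v)) = v := fun v => by
    rw [← Mod.End_mul_apply, ← Mod.End_mul_apply, hg, ← map_mul, ← map_mul, gE_cube, map_one]; rfl
  have hgi : ∀ {u v}, g u = g v → u = v := fun {u v} e => by rw [← hg3 u, e, hg3]
  set P := En M.ρ (dl 0 + dl (cIx 0) + dl (sMk 2 0 0)) with hP
  have hPv : ∀ v, P v = v + c v + c (c v) := fun v => by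
    rw [hP, En_add, En_add, En_one, En_dl, En_dl, LinearMap.add_apply, LinearMap.add_apply, sEl_c, ← hc,
      ← Mod.End_mul_apply, hc, ← map_mul, show cE 0 * cE 0 = sEl (sMk 2 0 0) from by
        rw [← sEl_c, sEl_mul]; rfl]
    rfl
  have hgP : ∀ v, g (P v) = P (g v) := fun v => by
    simp only [hPv, map_add, hgc]
  have hR : ∀ v, P v ∈ M.R 0 := fun v => by rw [hP, M.proj_zero hN]; exact ⟨v, rfl⟩
  have hgR : ∀ {x}, x ∈ M.R 0 → g x ∈ M.R 0 := fun {x} hx => by
    have e := M.proj_apply 0 hx 0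
    rw [if_pos rfl, ← M.proj_zero hN, ← hP] at e
    rw [← e, hgP]
    exact hR _
  -- on the first piece
  have hW0 : ∀ x, x ∈ M.R 0 → g (M.W x) = M.W (g x) := by
    intro x hx
    by_cases hx0 : x = 0
    · simp [hx0]
    set y := M.W x with hy
    have hyR : y ∈ M.R 0 := M.W_mem hN 0 hx
    have hy1 : y ≠ x := fun e => hx0 (M.W_fixed hN e)
    have hW3 : ∀ v, M.W (M.W (M.W v)) = v := fun v => by
      have e1 : ∀ u, M.W (M.W u) = M.W u + u := fun u => by
        rw [← Mod.End_mul_apply, M.W_sq hN]; rfl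
      rw [e1 (M.W v), e1 v, add_right_comm, vadd_self, zero_add]
    have hy2 : M.W y ≠ x := fun e => hy1 (by
      have := congrArg M.W e
      rw [hW3] at this
      exact this.symm)
    have hy3 : M.W y ≠ y := fun e => hx0 (M.W_inj hN ((M.W_fixed hN e).trans (map_zero M.W).symm))
    have hy0 : y ≠ 0 := fun e => hx0 (M.W_inj hN (e.trans (map_zero M.W).symm))
    have hz0 : M.W y ≠ 0 := fun e => hy0 (M.W_inj hN (e.trans (map_zero M.W).symm))
    have four := fun {u : V} (hu : u ∈ M.R 0) => M.four_points hN (i := 0) hx hx0 hu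
    have hgz : ∀ {u}, u ≠ 0 → g u ≠ 0 := fun {u} hu e => hu (hgi (e.trans (map_zero g).symm))
    have gx := hgz hx0
    rcases four (hgR hx) with e | e | e | e
    · exact absurd e gx
    · rw [e]
      rcases four (hgR hyR) with f | f | f | f
      · exact absurd f (hgz hy0)
      · exact absurd (hgi (f.trans e.symm)) hy1
      · exact f
      · exfalso
        rcases four (hgR (M.W_mem hN 0 hyR)) with k | k | k | k
        · exact hgz hz0 k
        · exact hy2 (hgi (k.trans e.symm))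
        · have h3 := hg3 y
          rw [f, k, f] at h3
          exact hy3 h3
        · exact hy3 (hgi (k.trans f.symm))
    · rw [e]
      rcases four (hgR hyR) with f | f | f | f
      · exact absurd f (hgz hy0)
      · exfalso
        have h3 := hg3 x
        rw [e, f, e] at h3
        exact hy1 h3
      · exact absurd (hgi (f.trans e.symm)) hy1
      · exact f
    · rw [e, hW3]
      rcases four (hgR hyR) with f | f | f | f
      · exact absurd f (hgz hy0)
      · exact f
      · exfalso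
        rcases four (hgR (M.W_mem hN 0 hyR)) with k | k | k | k
        · exact hgz hz0 k
        · have h3 := hg3 x
          rw [e, k, e] at h3
          exact hy2 h3
        · exact hy3 (hgi (k.trans f.symm))
        · exact hy2 (hgi (k.trans e.symm))
      · exact absurd (hgi (f.trans e.symm)) hy1
  have hW : ∀ v, M.W v = M.W (P v) + (c (c v) + v + c (c (P v)) + P v) := fun v => by
    have hw : ∀ u, M.W u = M.ρ (cE 1) (P u) + c (c u) + u := fun u => by
      rw [W, wF, En_add, En_add, ← En_mul, ← hP, En_dl, sEl_c, En_one, En_dl, LinearMap.add_apply,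
        LinearMap.add_apply, show sEl (sMk 2 0 0) = cE 0 * cE 0 by rw [← sEl_c, sEl_mul]; rfl, map_mul]
      rfl
    have hPP : P (P v) = P v := by
      rw [hP, M.proj_zero hN, ← Mod.End_mul_apply, En_mul, fW_mul, if_pos rfl]
    rw [hw v, hw (P v), hPP]
    rw [show M.ρ (cE 1) (P v) + c (c (P v)) + P v + (c (c v) + v + c (c (P v)) + P v) =
      M.ρ (cE 1) (P v) + c (c v) + v + ((c (c (P v)) + c (c (P v))) + (P v + P v)) by abel, vadd_self, vadd_self,
      add_zero, add_zero]
  refine LinearMap.ext fun v => ?_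
  rw [Mod.End_mul_apply, Mod.End_mul_apply, hW v, hW (g v), map_add, hW0 _ (hR v), hgP]
  simp only [map_add, hgc, hgP]

theorem W_comm (γ : SU4) : M.ρ γ * M.W = M.W * M.ρ γ := by
  let H : Subgroup SU4 :=
    { carrier := {γ | M.ρ γ * M.W = M.W * M.ρ γ}
      one_mem' := by simp
      mul_mem' := fun {a b} (ha : _ = _) (hb : _ = _) => by
        show _ = _
        rw [map_mul, mul_assoc, hb, ← mul_assoc, ha, mul_assoc]
      inv_mem' := fun {a} (ha : _ = _) => by
        show _ = _
        have h1 : M.ρ a⁻¹ * M.ρ a = 1 := by rw [← map_mul, inv_mul_cancel, map_one]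
        have h2 : M.ρ a * M.ρ a⁻¹ = 1 := by rw [← map_mul, mul_inv_cancel, map_one]
        calc M.ρ a⁻¹ * M.W = M.ρ a⁻¹ * (M.W * M.ρ a) * M.ρ a⁻¹ := by rw [mul_assoc, mul_assoc, h2, mul_one]
          _ = M.ρ a⁻¹ * (M.ρ a * M.W) * M.ρ a⁻¹ := by rw [ha]
          _ = M.W * M.ρ a⁻¹ := by rw [← mul_assoc, h1, one_mul] }
  have : H = ⊤ := closure_gens (fun i => M.W_c hN i) (fun k => M.W_t hN k) (M.W_g hN)
  exact this.ge (Subgroup.mem_top γ)

omit hN

/-- Multiplication by a number. -/
def sm (a : F4) : _root_.Module.End (ZMod 2) V := b0 a • 1 + b1 a • M.W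

include hN

theorem sm_add (a b : F4) : M.sm (a + b) = M.sm a + M.sm b := by
  simp only [sm, (b_facts.1 a b).1, (b_facts.1 a b).2.1, add_smul]; abel

theorem sm_mul (a b : F4) : M.sm (a * b) = M.sm a * M.sm b := by
  simp only [sm, (b_facts.1 a b).2.2.1, (b_facts.1 a b).2.2.2, add_mul, mul_add, smul_mul_smul_comm, one_mul,
    mul_one, M.W_sq hN, smul_add, add_smul]
  abel

theorem sm_one : M.sm 1 = 1 := by simp [sm, b_facts.2.2.1, b_facts.2.2.2.1]

theorem sm_zero : M.sm 0 = 0 := by simp [sm, b_facts.2.2.2.2.1, b_facts.2.2.2.2.2.1]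

theorem sm_w : M.sm F4.w = M.W := by simp [sm, b_facts.2.2.2.2.2.2.1, b_facts.2.2.2.2.2.2.2]

theorem sm_comm (γ : SU4) (a : F4) : M.ρ γ * M.sm a = M.sm a * M.ρ γ := by
  simp only [sm, mul_add, add_mul, mul_smul_comm, smul_mul_assoc, one_mul, mul_one, M.W_comm hN]

theorem sm_mem (i : Fin 14) (a : F4) {v : V} (hv : v ∈ M.R i) : M.sm a v ∈ M.R i :=
  Submodule.add_mem _ (Submodule.smul_mem _ _ hv) (Submodule.smul_mem _ _ (M.W_mem hN i hv))

theorem sm_eq_zero {a : F4} {v : V} (hv : v ≠ 0) (h : M.sm a v = 0) : a = 0 := by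
  by_contra ha
  have e : M.sm a⁻¹ (M.sm a v) = v := by
    rw [← Mod.End_mul_apply, ← M.sm_mul hN, b_facts.2.1 a ha, M.sm_one hN]; rfl
  rw [h, map_zero] at e
  exact hv e.symm

theorem coord_exists : ∃ e : Fin 4 → V, (∀ i, e i ∈ M.R (i.castLE (by norm_num)) ∧ e i ≠ 0) ∧
    (∀ k : Fin 3, M.ρ (tE k) (e k.castSucc) = e k.succ) := by
  have h0 : ∃ v ∈ M.R 0, v ≠ 0 := by
    by_contra h
    push Not at h
    have : M.n 0 = 1 :=
      Nat.card_eq_one_iff_unique.2 ⟨⟨fun a b => Subtype.ext ((h _ a.2).trans (h _ b.2).symm)⟩, ⟨0⟩⟩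
    have := hN.1
    omega
  obtain ⟨v, hv, hv0⟩ := h0
  have hne : ∀ k {u : V}, u ≠ 0 → M.ρ (tE k) u ≠ 0 := fun k {u} hu e => hu (by
    have := M.t_sq k u
    rw [e, map_zero] at this
    exact this.symm)
  refine ⟨![v, M.ρ (tE 0) v, M.ρ (tE 1) (M.ρ (tE 0) v), M.ρ (tE 2) (M.ρ (tE 1) (M.ρ (tE 0) v))],
    fun i => ?_, fun k => by fin_cases k <;> rfl⟩
  fin_cases i
  · exact ⟨hv, hv0⟩
  · exact ⟨M.t_mem 0 0 hv, hne 0 hv0⟩
  · exact ⟨M.t_mem 1 1 (M.t_mem 0 0 hv), hne 1 (hne 0 hv0)⟩
  · exact ⟨M.t_mem 2 2 (M.t_mem 1 1 (M.t_mem 0 0 hv)), hne 2 (hne 1 (hne 0 hv0))⟩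

theorem polar_pieces {i j : Fin 4} (hij : i ≠ j) {u v : V} (hu : u ∈ M.R (i.castLE (by norm_num)))
    (hv : v ∈ M.R (j.castLE (by norm_num))) : QuadraticMap.polar q u v = 0 := by
  have hinv : ∀ γ a b, QuadraticMap.polar q (M.ρ γ a) (M.ρ γ b) = QuadraticMap.polar q a b := fun γ a b => by
    simp only [QuadraticMap.polar, ← map_add, M.inv]
  have hcu : M.ρ (cE i) u = u := by rw [M.c_on hN i i hu, if_pos rfl]
  have hcv : M.ρ (cE i) v = M.W v := by rw [M.c_on hN i j hv, if_neg hij]
  have hWv : M.W v ∈ M.R (j.castLE (by norm_num)) := M.W_mem hN _ hv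
  have hcw : M.ρ (cE i) (M.W v) = M.W (M.W v) := by rw [M.c_on hN i j hWv, if_neg hij]
  have h1 := hinv (cE i) u v
  rw [hcu, hcv] at h1
  have h2 := hinv (cE i) u (M.W v)
  rw [hcu, hcw, h1] at h2
  have e : M.W (M.W v) = M.W v + v := by rw [← Mod.End_mul_apply, M.W_sq hN]; rfl
  rw [e, QuadraticMap.polar_add_right, h1] at h2
  exact add_eq_left.1 (h2.trans rfl)

theorem q_one {i : Fin 4} {v : V} (hv : v ∈ M.R (i.castLE (by norm_num))) (h0 : v ≠ 0) : q v = 1 := by
  by_contra hq
  have hq0 : q v = 0 := by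
    have : ∀ a : ZMod 2, a ≠ 1 → a = 0 := by decide
    exact this _ hq
  have hWq : ∀ u ∈ M.R (i.castLE (show 4 ≤ 14 by norm_num)), q (M.W u) = q u := fun u hu => by
    obtain ⟨k, hk⟩ : ∃ k : Fin 4, k ≠ i := exists_ne i
    have := M.inv (cE k) u
    rwa [M.c_on hN k i hu, if_neg hk] at this
  have hall : ∀ u ∈ M.R (i.castLE (show 4 ≤ 14 by norm_num)), q u = 0 := fun u hu => by
    rcases M.four_points hN hv h0 hu with rfl | rfl | rfl | rfl
    · exact map_zero q
    · exact hq0
    · rw [hWq v hv, hq0]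
    · rw [hWq _ (M.W_mem hN _ hv), hWq v hv, hq0]
  obtain ⟨w, hw⟩ := M.nondeg v h0
  refine hw ?_
  have hpol : QuadraticMap.polar q v w = 0 := by
    rw [← M.sum_proj w]
    change (QuadraticMap.polarBilin q v) (∑ j, En M.ρ (fW j) w) = 0
    rw [map_sum]
    refine Finset.sum_eq_zero fun j _ => ?_
    show QuadraticMap.polar q v (En M.ρ (fW j) w) = 0
    by_cases hj : j.val < 4
    · obtain ⟨k, rfl⟩ : ∃ k : Fin 4, j = k.castLE (by norm_num) := ⟨⟨j.val, hj⟩, rfl⟩
      have hm : En M.ρ (fW (k.castLE (show 4 ≤ 14 by norm_num))) w ∈ M.R (k.castLE (by norm_num)) := ⟨w, rfl⟩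
      by_cases hki : i = k
      · subst hki
        simp only [QuadraticMap.polar, hall _ (Submodule.add_mem _ hv hm), hall _ hv, hall _ hm, sub_zero]
      · exact M.polar_pieces hN hki hv hm
    · rw [M.En_dead hN j (by omega)]
      simp [QuadraticMap.polar]
  simp only [QuadraticMap.polar] at hpol
  rw [sub_sub] at hpol
  exact sub_eq_zero.1 hpol

theorem main : ∃ (θ : SU4 →* SU4) (ψ : V4 ≃+ V), Function.Bijective θ ∧
    (∀ γ x, M.ρ γ (ψ x) = ψ (act (θ γ) x)) ∧
    ∀ x, q (ψ x) = if Cfsg.hermForm 4 F4 2 x x = 0 then 0 else 1 := by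
  classical
  haveI := M.finite
  obtain ⟨e, he, het⟩ := M.coord_exists hN
  let ψ₀ : V4 →+ V := AddMonoidHom.mk' (fun x => ∑ i, M.sm (x i) (e i)) fun x y => by
    simp only [Pi.add_apply, M.sm_add hN, LinearMap.add_apply, Finset.sum_add_distrib]
  have hψ₀ : ∀ x, ψ₀ x = ∑ i, M.sm (x i) (e i) := fun x => rfl
  have hinj : Function.Injective ψ₀ := by
    rw [injective_iff_map_eq_zero]
    intro x hx
    funext j
    refine M.sm_eq_zero hN (he j).2 ?_
    have h := congrArg (En M.ρ (fW (j.castLE (show 4 ≤ 14 by norm_num)))) hx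
    rw [hψ₀, map_sum, map_zero, Finset.sum_congr rfl fun i _ => M.proj_apply _ (M.sm_mem hN _ _ (he i).1) _] at h
    simpa [Fin.castLE_inj] using h
  have hbij : Function.Bijective ψ₀ := by
    haveI := Fintype.ofFinite V
    refine (Fintype.bijective_iff_injective_and_card _).2 ⟨hinj, ?_⟩
    rw [← Nat.card_eq_fintype_card (α := V), M.card]
    rfl
  let ψ : V4 ≃+ V := AddEquiv.ofBijective ψ₀ hbij
  have hψ : ∀ x, ψ x = ∑ i, M.sm (x i) (e i) := hψ₀
  have hψs : ∀ a x, ψ (a • x) = M.sm a (ψ x) := fun a x => by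
    simp only [hψ, map_sum, Pi.smul_apply, smul_eq_mul, M.sm_mul hN]; rfl
  have hq : ∀ x, q (ψ x) = if Cfsg.hermForm 4 F4 2 x x = 0 then 0 else 1 := by
    intro x
    rw [herm_digit, hψ]
    have hpiece : ∀ i, q (M.sm (x i) (e i)) = if x i = 0 then 0 else 1 := fun i => by
      split_ifs with h
      · rw [h, M.sm_zero hN]; exact map_zero q
      · exact M.q_one hN (M.sm_mem hN _ _ (he i).1) fun e0 => h (M.sm_eq_zero hN (he i).2 e0)
    simp only [Fin.sum_univ_four]
    have ho : ∀ i j, i ≠ j → QuadraticMap.polar q (M.sm (x i) (e i)) (M.sm (x j) (e j)) = 0 := fun i j hij =>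
      M.polar_pieces hN hij (M.sm_mem hN _ _ (he i).1) (M.sm_mem hN _ _ (he j).1)
    simp only [QuadraticMap.map_add q, QuadraticMap.polar_add_left, hpiece, ho 0 1 (by decide), ho 0 2 (by decide),
      ho 0 3 (by decide), ho 1 2 (by decide), ho 1 3 (by decide), ho 2 3 (by decide), add_zero]
  let L : SU4 → (V4 →ₗ[F4] V4) := fun γ =>
    { toFun := fun x => ψ.symm (M.ρ γ (ψ x))
      map_add' := fun x y => by simp
      map_smul' := fun a x => by
        refine ψ.injective ?_
        rw [AddEquiv.apply_symm_apply, RingHom.id_apply, hψs, hψs, AddEquiv.apply_symm_apply,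
          ← Mod.End_mul_apply, M.sm_comm hN]
        rfl }
  have hL : ∀ γ x, ψ (L γ x) = M.ρ γ (ψ x) := fun γ x => ψ.apply_symm_apply _
  have hLmul : ∀ a b x, L (a * b) x = L a (L b x) := fun a b x => ψ.injective (by
    rw [hL, hL, hL, map_mul]; rfl)
  have hLone : ∀ x, L 1 x = x := fun x => ψ.injective (by rw [hL, map_one]; rfl)
  have hLq : ∀ γ x, Cfsg.hermForm 4 F4 2 (L γ x) (L γ x) = Cfsg.hermForm 4 F4 2 x x := fun γ x => by
    have h := M.inv γ (ψ x)
    rw [← hL, hq, hq] at h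
    rcases herm_zero_one (L γ x) with h1 | h1 <;> rcases herm_zero_one x with h2 | h2 <;>
      simp [h1, h2] at h ⊢
  have hLh : ∀ γ u v, Cfsg.hermForm 4 F4 2 (L γ u) (L γ v) = Cfsg.hermForm 4 F4 2 u v := by
    intro γ u v
    have tr : ∀ u v, Cfsg.hermForm 4 F4 2 (L γ u) (L γ v) + Cfsg.hermForm 4 F4 2 (L γ u) (L γ v) ^ 2 =
        Cfsg.hermForm 4 F4 2 u v + Cfsg.hermForm 4 F4 2 u v ^ 2 := fun u v => by
      have h := hLq γ (u + v)
      rw [map_add, herm_add_self, herm_add_self, hLq, hLq] at h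
      exact add_left_cancel h
    refine trace_fix _ _ (tr u v) ?_
    have h := tr (F4.w • u) v
    rwa [map_smul, CfsgLib.SURadical.smul_left F4.card', CfsgLib.SURadical.smul_left F4.card'] at h
  let mat : SU4 →* M4 :=
    { toFun := fun γ => LinearMap.toMatrix' (L γ)
      map_one' := by
        rw [show L 1 = LinearMap.id from LinearMap.ext hLone, LinearMap.toMatrix'_id]
      map_mul' := fun a b => by
        rw [show L (a * b) = (L a).comp (L b) from LinearMap.ext (hLmul a b), LinearMap.toMatrix'_comp] }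
  have hmat : ∀ γ x, (mat γ).mulVec x = L γ x := fun γ x => LinearMap.toMatrix'_mulVec _ _
  have hdet : ∀ γ, (mat γ).det = 1 := by
    let H : Subgroup SU4 :=
      { carrier := {γ | (mat γ).det = 1}
        one_mem' := by simp
        mul_mem' := fun {a b} (ha : _ = _) (hb : _ = _) => by
          show _ = _
          rw [map_mul, Matrix.det_mul, ha, hb, one_mul]
        inv_mem' := fun {a} (ha : _ = _) => by
          show _ = _
          have h1 := congrArg Matrix.det (show mat a⁻¹ * mat a = 1 by rw [← map_mul, inv_mul_cancel, map_one])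
          rwa [Matrix.det_mul, Matrix.det_one, ha, mul_one] at h1 }
    intro γ
    have hH : H = ⊤ := by
      rw [eq_top_iff, ← CfsgLib.U6Central.closure_pts (F := F4) F4.card', Subgroup.closure_le]
      rintro A ⟨v, hv⟩
      have hAA : A * A = 1 := su_ext (by
        rw [U62Type.coe_mul, mat_of_isPt hv]; exact trans_sq v hv.1.2)
      have h1 := congrArg Matrix.det (show mat A * mat A = 1 by rw [← map_mul, hAA, map_one])
      rw [Matrix.det_mul, Matrix.det_one] at h1
      have key : ∀ d : F4, d * d = 1 → d = 1 := by decide +kernel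
      exact key _ h1
    exact hH.ge (Subgroup.mem_top γ)
  let θ : SU4 →* SU4 :=
    { toFun := fun γ => ⟨⟨mat γ, hdet γ⟩, fun u v => by
        show Cfsg.hermForm 4 F4 2 ((mat γ).mulVec u) ((mat γ).mulVec v) = _
        rw [hmat, hmat, hLh]⟩
      map_one' := su_ext (map_one mat)
      map_mul' := fun a b => su_ext (map_mul mat a b) }
  have hθ : ∀ γ x, act (θ γ) x = L γ x := hmat
  have hθi : Function.Injective θ := fun a b h => M.inj (LinearMap.ext fun v => by
    obtain ⟨x, rfl⟩ := ψ.surjective v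
    rw [← hL, ← hL, ← hθ, ← hθ, h])
  exact ⟨θ, ψ, ⟨hθi, Finite.surjective_of_injective hθi⟩, fun γ x => by rw [hθ, hL], hq⟩

end Mod

end CfsgLib.USixType.Module
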